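import Groth.Prelude.Def_Koszul
import Mathlib.Algebra.Homology.DerivedCategory.HomologySequence
import Mathlib.Algebra.Homology.SingleHomology
import Mathlib.Algebra.Homology.Linear
import Mathlib.Algebra.Homology.ShortComplex.Linear
import Mathlib.RingTheory.Finiteness.Prod
import Mathlib.Algebra.Module.FinitePresentation
import Mathlib.Algebra.Category.ModuleCat.Biproducts
import Mathlib.Algebra.Homology.ShortComplex.ModuleCat
import Mathlib.RingTheory.Nakayama
import Mathlib.RingTheory.Localization.AtPrime.Basic
import Mathlib.RingTheory.Regular.RegularSequence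

/-!
# Homology of the mapping-cone Koszul complex

Long exact sequence, vanishing in positive degrees, `H^0 = A/(l)`, finiteness, and the local
consequence of Koszul acyclicity for a Noetherian ring.
-/

universe u

open CategoryTheory Limits

attribute [local instance] HasDerivedCategory.standard

namespace Groth.Agent.KosCone.Basic

variable {A : Type u} [CommRing A]

/-- The mapping cone triangle of multiplication by `f`. -/
noncomputable abbrev tri (f : A) (l : List A) :=
  CochainComplex.mappingCone.triangle (f • 𝟙 (Koszul.koszul A l))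

theorem homologyMap_smul_id (f : A) (K : CochainComplex (ModuleCat.{u} A) ℤ) (i : ℤ) :
    HomologicalComplex.homologyMap (f • 𝟙 K) i = f • 𝟙 (K.homology i) := by
  have : (HomologicalComplex.shortComplexFunctor (ModuleCat.{u} A) (ComplexShape.up ℤ) i).map
      (f • 𝟙 K) = f • 𝟙 (K.sc i) := by ext <;> rfl
  rw [HomologicalComplex.homologyMap, this, ShortComplex.homologyMap_smul,
    ShortComplex.homologyMap_id]
  rfl

/-- The map `H^i K(l) → H^i K(f :: l)`. -/
noncomputable def ι (f : A) (l : List A) (i : ℤ) :
    (Koszul.koszul A l).homology i →ₗ[A] (Koszul.koszul A (f :: l)).homology i :=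
  (HomologicalComplex.homologyMap (tri f l).mor₂ i).hom

/-- The connecting map `H^i K(f :: l) → H^{i+1} K(l)`. -/
noncomputable def δ (f : A) (l : List A) (i j : ℤ) (h : i + 1 = j) :
    (Koszul.koszul A (f :: l)).homology i →ₗ[A] (Koszul.koszul A l).homology j :=
  (CochainComplex.homologyδOfTriangle (tri f l) i j h).hom

theorem ι_eq_zero_iff (f : A) (l : List A) (i : ℤ) (x : (Koszul.koszul A l).homology i) :
    ι f l i x = 0 ↔ ∃ y, f • y = x := by
  have hT := DerivedCategory.mappingCone_triangle_distinguished (f • 𝟙 (Koszul.koszul A l))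
  have h1 : HomologicalComplex.homologyMap (tri f l).mor₁ i = f • 𝟙 _ :=
    homologyMap_smul_id f _ i
  constructor
  · intro hx
    obtain ⟨y, hy⟩ := (ShortComplex.moduleCat_exact_iff _).mp
      (CochainComplex.homologyMap_exact₂_of_distTriang _ hT i) x hx
    refine ⟨y, ?_⟩
    rw [← hy]
    change _ = (HomologicalComplex.homologyMap (tri f l).mor₁ i).hom y
    rw [h1]
    rfl
  · rintro ⟨y, rfl⟩
    have := ConcreteCategory.congr_hom
      (CochainComplex.homologyMap_comp_eq_zero_of_distTriang _ hT i) y
    rw [h1] at this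
    exact this

theorem δ_eq_zero_iff (f : A) (l : List A) (i j : ℤ) (h : i + 1 = j)
    (x : (Koszul.koszul A (f :: l)).homology i) :
    δ f l i j h x = 0 ↔ ∃ y, ι f l i y = x := by
  have hT := DerivedCategory.mappingCone_triangle_distinguished (f • 𝟙 (Koszul.koszul A l))
  constructor
  · intro hx
    exact (ShortComplex.moduleCat_exact_iff _).mp
      (CochainComplex.homologyMap_exact₃_of_distTriang _ hT i j h) x hx
  · rintro ⟨y, rfl⟩
    exact ConcreteCategory.congr_hom
      (CochainComplex.homologyMap_homologyδOfTriangle _ hT i j h) y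

theorem smul_eq_zero_iff (f : A) (l : List A) (i j : ℤ) (h : i + 1 = j)
    (x : (Koszul.koszul A l).homology j) :
    f • x = 0 ↔ ∃ y, δ f l i j h y = x := by
  have hT := DerivedCategory.mappingCone_triangle_distinguished (f • 𝟙 (Koszul.koszul A l))
  have h1 : HomologicalComplex.homologyMap (tri f l).mor₁ j = f • 𝟙 _ :=
    homologyMap_smul_id f _ j
  constructor
  · intro hx
    exact (ShortComplex.moduleCat_exact_iff _).mp
      (CochainComplex.homologyMap_exact₁_of_distTriang _ hT i j h) x (by
        change (HomologicalComplex.homologyMap (tri f l).mor₁ j).hom x = 0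
        rw [h1]; exact hx)
  · rintro ⟨y, rfl⟩
    have := ConcreteCategory.congr_hom
      (CochainComplex.homologyδOfTriangle_homologyMap _ hT i j h) y
    rw [h1] at this
    exact this

theorem isZero_X : ∀ (l : List A) (i : ℤ), 0 < i ∨ i < -(l.length : ℤ) →
    IsZero ((Koszul.koszul A l).X i)
  | [], i, h => HomologicalComplex.isZero_single_obj_X _ _ _ i (by simp at h; omega)
  | f :: l, i, h => by
    refine (CochainComplex.mappingCone.isZero_X_iff (f • 𝟙 (Koszul.koszul A l)) i).mpr ⟨?_, ?_⟩ <;>
    · refine isZero_X l _ ?_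
      simp only [List.length_cons, Nat.cast_succ] at h
      omega

theorem homology_eq_zero (l : List A) (i : ℤ) (h : 0 < i ∨ i < -(l.length : ℤ))
    (x : (Koszul.koszul A l).homology i) : x = 0 := by
  have hz : IsZero ((Koszul.koszul A l).homology i) :=
    ((Koszul.koszul A l).exactAt_iff_isZero_homology i).mp
      (ShortComplex.exact_of_isZero_X₂ _ (isZero_X l i h))
  have := ModuleCat.subsingleton_of_isZero hz
  exact Subsingleton.elim _ _

theorem finite_X : ∀ (l : List A) (i : ℤ), Module.Finite A ((Koszul.koszul A l).X i)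
  | [], i => by
    by_cases h : i = 0
    · subst h
      exact Module.Finite.equiv (HomologicalComplex.singleObjXSelf (ComplexShape.up ℤ) 0
        (ModuleCat.of A A)).toLinearEquiv.symm
    · have := ModuleCat.subsingleton_of_isZero (isZero_X ([] : List A) i (by simp; omega))
      infer_instance
  | f :: l, i => by
    have := finite_X l (i + 1)
    have := finite_X l i
    have : Module.Finite A (ModuleCat.of A (((Koszul.koszul A l).X (i + 1) : Type u) × ((Koszul.koszul A l).X i : Type u))) :=
      inferInstanceAs (Module.Finite A (((Koszul.koszul A l).X (i + 1) : Type u) × ((Koszul.koszul A l).X i : Type u)))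
    exact Module.Finite.equiv ((HomologicalComplex.homotopyCofiber.XIsoBiprod
      (f • 𝟙 (Koszul.koszul A l)) i (i + 1) rfl) ≪≫ ModuleCat.biprodIsoProd _ _).toLinearEquiv.symm

theorem finite_homology [IsNoetherianRing A] (l : List A) (i : ℤ) :
    Module.Finite A ((Koszul.koszul A l).homology i) := by
  have := finite_X l i
  have : IsNoetherian A ((Koszul.koszul A l).X i) := inferInstance
  have : IsNoetherian A ((Koszul.koszul A l).sc i).X₂ := ‹IsNoetherian A _›
  have : Module.Finite A ((Koszul.koszul A l).sc i).moduleCatLeftHomologyData.H :=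
    inferInstanceAs (Module.Finite A (LinearMap.ker ((Koszul.koszul A l).sc i).g.hom ⧸ LinearMap.range ((Koszul.koszul A l).sc i).moduleCatToCycles))
  exact Module.Finite.equiv ((Koszul.koszul A l).sc i).moduleCatHomologyIso.toLinearEquiv.symm

theorem exists_toH0 : ∀ (l : List A), ∃ π : A →ₗ[A] (Koszul.koszul A l).homology 0,
    Function.Surjective π ∧ LinearMap.ker π = Ideal.ofList l
  | [] => by
    let e := (HomologicalComplex.singleObjHomologySelfIso (ComplexShape.up ℤ) (0 : ℤ)
      (ModuleCat.of A A)).toLinearEquiv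
    exact ⟨e.symm.toLinearMap, e.symm.surjective, by
      rw [Ideal.ofList_nil]; exact e.symm.ker⟩
  | f :: l => by
    obtain ⟨π, hπ, hk⟩ := exists_toH0 l
    refine ⟨ι f l 0 ∘ₗ π, ?_, ?_⟩
    · intro x
      obtain ⟨y, hy⟩ := (δ_eq_zero_iff f l 0 1 rfl x).mp (homology_eq_zero l 1 (by omega) _)
      obtain ⟨a, rfl⟩ := hπ y
      exact ⟨a, hy⟩
    · ext a
      rw [LinearMap.mem_ker, LinearMap.comp_apply, ι_eq_zero_iff, Ideal.ofList_cons]
      constructor
      · rintro ⟨y, hy⟩
        obtain ⟨b, rfl⟩ := hπ y
        have hd : a - f * b ∈ Ideal.ofList l := by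
          rw [← hk, LinearMap.mem_ker, map_sub, ← smul_eq_mul, map_smul, hy, sub_self]
        rw [← sub_add_cancel a (f * b), add_comm]
        exact Submodule.add_mem_sup (Ideal.mul_mem_right _ _ (Ideal.mem_span_singleton_self f)) hd
      · intro ha
        obtain ⟨u, hu, v, hv, rfl⟩ := Submodule.mem_sup.mp ha
        obtain ⟨b, rfl⟩ := Ideal.mem_span_singleton'.mp hu
        refine ⟨π b, ?_⟩
        rw [← hk, LinearMap.mem_ker] at hv
        rw [map_add, hv, add_zero, mul_comm b f, ← smul_eq_mul, map_smul]

/-- `M_p = 0`, elementwise. -/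
def KilledAt (p : Ideal A) (M : Type u) [AddCommGroup M] [Module A M] : Prop :=
  ∀ x : M, ∃ s ∉ p, s • x = 0

/-- Negative Koszul homology vanishes at `p`. -/
def AcyclicAt (p : Ideal A) (l : List A) : Prop :=
  ∀ i : ℤ, i < 0 → KilledAt p ((Koszul.koszul A l).homology i)

theorem acyclicAt_of_isZero (p : Ideal A) [hp : p.IsPrime] (l : List A)
    (h : ∀ i : ℤ, i ≠ 0 → IsZero ((Koszul.koszul A l).homology i)) : AcyclicAt p l := by
  intro i hi x
  have := ModuleCat.subsingleton_of_isZero (h i (by omega))
  exact ⟨1, fun h1 => hp.ne_top ((Ideal.eq_top_iff_one p).mpr h1), Subsingleton.elim _ _⟩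

theorem acyclicAt_tail [IsNoetherianRing A] (p : Ideal A) [p.IsPrime] {f : A} (hf : f ∈ p)
    {l : List A} (h : AcyclicAt p (f :: l)) : AcyclicAt p l := by
  intro i hi x
  let M := (Koszul.koszul A l).homology i
  have := finite_homology l i
  let Ap := Localization.AtPrime p
  let N := LocalizedModule p.primeCompl M
  have : Module.FinitePresentation A M := Module.finitePresentation_of_finite A M
  have : Module.FinitePresentation Ap N := inferInstance
  have hsub : (⊤ : Submodule Ap N) ≤ Ideal.span {algebraMap A Ap f} • ⊤ := by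
    intro n _
    induction n using LocalizedModule.induction_on with
    | h m t =>
    obtain ⟨s, hs, hs0⟩ := h i hi (ι f l i m)
    rw [← map_smul] at hs0
    obtain ⟨y, hy⟩ := (ι_eq_zero_iff f l i _).mp hs0
    have : LocalizedModule.mk m t = algebraMap A Ap f • LocalizedModule.mk y (⟨s, hs⟩ * t) := by
      rw [IsScalarTower.algebraMap_smul, LocalizedModule.smul'_mk, LocalizedModule.mk_eq]
      refine ⟨1, ?_⟩
      simp only [one_smul, Submonoid.smul_def, Submonoid.coe_mul, hy, smul_smul]
      rw [mul_comm s]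
    rw [this]
    exact Submodule.smul_mem_smul (Ideal.mem_span_singleton_self _) trivial
  have hbot : (⊤ : Submodule Ap N) = ⊥ :=
    Submodule.eq_bot_of_le_smul_of_le_jacobson_bot _ _ Module.Finite.fg_top hsub (by
      rw [IsLocalRing.jacobson_eq_maximalIdeal _ bot_ne_top, Ideal.span_le,
        Set.singleton_subset_iff, SetLike.mem_coe]
      rwa [IsLocalization.AtPrime.to_map_mem_maximal_iff Ap p f])
  have h0 : LocalizedModule.mk x 1 = (0 : N) := (Submodule.mem_bot Ap).mp (hbot ▸ trivial)
  rw [← LocalizedModule.zero_mk 1, LocalizedModule.mk_eq] at h0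
  obtain ⟨s, hs⟩ := h0
  exact ⟨s, s.2, by simpa using! hs⟩

theorem regular_step (p : Ideal A) {f : A}
    {l : List A} (h : AcyclicAt p (f :: l)) {a : A} (ha : f * a ∈ Ideal.ofList l) :
    ∃ s ∉ p, s * a ∈ Ideal.ofList l := by
  obtain ⟨π, _, hk⟩ := exists_toH0 l
  rw [← hk, LinearMap.mem_ker, ← smul_eq_mul, map_smul,
    smul_eq_zero_iff f l (-1) 0 (by norm_num)] at ha
  obtain ⟨v, hv⟩ := ha
  obtain ⟨s, hs, hs0⟩ := h (-1) (by norm_num) v
  refine ⟨s, hs, ?_⟩
  rw [← hk, LinearMap.mem_ker, ← smul_eq_mul, map_smul, ← hv, ← map_smul, hs0, map_zero]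

/-- Koszul acyclicity at `p` gives a regular element on `A_p/(l)`. -/
theorem isSMulRegular_atPrime (p : Ideal A) [p.IsPrime] {f : A}
    {l : List A} (h : AcyclicAt p (f :: l)) :
    IsSMulRegular (Localization.AtPrime p ⧸ (Ideal.ofList l).map (algebraMap A (Localization.AtPrime p)))
      (algebraMap A (Localization.AtPrime p) f) := by
  rw [isSMulRegular_quotient_iff_mem_of_smul_mem]
  intro x hx
  obtain ⟨⟨a, t⟩, rfl⟩ := IsLocalization.mk'_surjective p.primeCompl x
  rw [smul_eq_mul, IsLocalization.mul_mk'_eq_mk'_of_mul,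
    IsLocalization.mk'_mem_map_algebraMap_iff] at hx
  obtain ⟨s, hs, hsa⟩ := hx
  obtain ⟨s', hs', hsa'⟩ := regular_step p h (a := s * a)
    (by rw [mul_left_comm]; exact hsa)
  refine (IsLocalization.mk'_mem_map_algebraMap_iff p.primeCompl _ _ _ _).mpr
    ⟨s' * s, mul_mem (show s' ∈ p.primeCompl from hs') hs, ?_⟩
  rwa [mul_assoc]

end Groth.Agent.KosCone.Basic
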